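import Cfsg.Agent.Lib.Weil.Symplectic

/-!
Linearisation of the Weil representation and its parity halves.
-/

set_option autoImplicit false

namespace Cfsg.Agent.Lib.Weil

open Matrix Module Cfsg.Agent.Lib.Symplectic

variable (n : ℕ) (F : Type*) [Field F]

/-- The functions with parity `ε`. -/
noncomputable def half (ε : ℂ) : Submodule ℂ (Fn n F) :=
  LinearMap.ker (parity n F - ε • (1 : Module.End ℂ (Fn n F)))

variable {n F}

theorem mem_half {ε : ℂ} {f : Fn n F} : f ∈ half n F ε ↔ parity n F f = ε • f := by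
  simp [half, sub_eq_zero]

theorem mapsTo_half {T : Module.End ℂ (Fn n F)} (h : Commute (parity n F) T) (ε : ℂ) :
    ∀ f ∈ half n F ε, T f ∈ half n F ε := by
  intro f hf
  rw [mem_half] at hf ⊢
  rw [← Module.End.mul_apply, h.eq, Module.End.mul_apply, hf, map_smul]

theorem finrank_half [Fintype F] (h2 : (2 : F) ≠ 0) {ε : ℂ} (hε : ε = 1 ∨ ε = -1) :
    (finrank ℂ (half n F ε) : ℂ) * 2 = (Fintype.card F : ℂ) ^ n + ε := by
  classical
  have hεε : ε * ε = 1 := by rcases hε with rfl | rfl <;> norm_num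
  let p : Module.End ℂ (Fn n F) := (2 : ℂ)⁻¹ • (1 + ε • parity n F)
  have hp : LinearMap.IsProj (half n F ε) p := by
    constructor
    · intro f
      rw [mem_half]
      simp only [p, LinearMap.smul_apply, LinearMap.add_apply, Module.End.one_apply, map_smul,
        map_add, ← Module.End.mul_apply, parity_sq, smul_add, smul_smul]
      rw [show ε * (2⁻¹ * ε) = 2⁻¹ from by rw [mul_comm (2⁻¹ : ℂ) ε, ← mul_assoc, hεε, one_mul],
        mul_comm (2⁻¹ : ℂ) ε]
      abel
    · intro f hf
      rw [mem_half] at hf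
      simp only [p, LinearMap.smul_apply, LinearMap.add_apply, Module.End.one_apply, hf, smul_smul,
        hεε, smul_add]
      rw [← add_smul, mul_assoc (2 : ℂ)⁻¹ ε ε, hεε, show (2 : ℂ)⁻¹ + 2⁻¹ * 1 = 1 by norm_num,
        one_smul]
  have h := hp.trace
  simp only [p, map_smul, map_add, LinearMap.trace_one, trace_parity h2, smul_eq_mul, mul_one,
    Module.finrank_fintype_fun_eq_card, Fintype.card_fun, Fintype.card_fin, Nat.cast_pow] at h
  rw [← h]
  ring

theorem finrank_half_one [Fintype F] (h2 : (2 : F) ≠ 0) :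
    finrank ℂ (half n F 1) = finrank ℂ (half n F (-1)) + 1 := by
  have h1 := finrank_half (n := n) (F := F) h2 (Or.inl rfl : (1 : ℂ) = 1 ∨ _)
  have h3 := finrank_half (n := n) (F := F) h2 (Or.inr rfl : (-1 : ℂ) = 1 ∨ _)
  have : ((finrank ℂ (half n F 1) : ℕ) : ℂ) = ((finrank ℂ (half n F (-1)) + 1 : ℕ) : ℂ) := by
    push_cast
    linear_combination (1 / 2 : ℂ) * h1 - (1 / 2 : ℂ) * h3
  exact_mod_cast this

theorem finrank_half_neg [Fintype F] (h2 : (2 : F) ≠ 0) :
    finrank ℂ (half n F (-1)) = (Fintype.card F ^ n - 1) / 2 := by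
  have h := finrank_half (n := n) (F := F) h2 (Or.inr rfl : (-1 : ℂ) = 1 ∨ _)
  have : ((finrank ℂ (half n F (-1)) * 2 + 1 : ℕ) : ℂ) = ((Fintype.card F ^ n : ℕ) : ℂ) := by
    push_cast
    linear_combination h
  have := Nat.cast_injective this
  omega

/-- The linearised intertwining operators. -/
theorem exists_weil [Fintype F] (ψ : AddChar F ℂ) (h2 : (2 : F) ≠ 0) (hψ : ψ 1 ≠ 1) :
    ∃ W : symplecticGroup (Fin n) F →* Module.End ℂ (Fn n F),
      (∀ A, IsInt ψ A (W A)) ∧ ∀ A, Commute (parity n F) (W A) := by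
  classical
  choose T hu hT using exists_int (n := n) ψ h2 hψ
  have hc : ∀ A, Commute (parity n F) (T A) := fun A => int_comm_parity ψ h2 hψ (hu A) (hT A)
  let d : ℂ → ∀ A : symplecticGroup (Fin n) F, ℂ := fun ε A =>
    LinearMap.det ((T A).restrict (mapsTo_half (hc A) ε))
  have hd : ∀ ε A, d ε A ≠ 0 := fun ε A => by
    have hbij := (Module.End.isUnit_iff _).1 (hu A)
    have : IsUnit ((T A).restrict (mapsTo_half (hc A) ε)) := by
      rw [Module.End.isUnit_iff]
      have hinj : Function.Injective ((T A).restrict (mapsTo_half (hc A) ε)) :=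
        fun a b h => Subtype.ext (hbij.1 (congrArg Subtype.val h))
      exact ⟨hinj, LinearMap.injective_iff_surjective.1 hinj⟩
    exact (this.map LinearMap.det).ne_zero
  set χ : symplecticGroup (Fin n) F → ℂ := fun A => d (-1) A / d 1 A with hχ
  have hint : ∀ A, IsInt ψ A (χ A • T A) := fun A v => by
    rw [mul_smul_comm, hT A v, smul_mul_assoc]
  have hmul : ∀ A B, χ (A * B) • T (A * B) = (χ A • T A) * (χ B • T B) := by
    intro A B
    have hu' : IsUnit (χ (A * B) • T (A * B)) := by
      have h0 : χ (A * B) ≠ 0 := div_ne_zero (hd _ _) (hd _ _)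
      rw [show χ (A * B) • T (A * B) = algebraMap ℂ _ (χ (A * B)) * T (A * B) from
        Algebra.smul_def _ _]
      exact ((IsUnit.mk0 _ h0).map _).mul (hu _)
    have hint' : IsInt ψ (A * B) ((χ A • T A) * (χ B • T B)) := fun v => by
      rw [Submonoid.coe_mul, ← Matrix.mulVec_mulVec, ← mul_assoc, hint A, mul_assoc, hint B,
        mul_assoc]
    obtain ⟨k, hk⟩ := int_unique ψ hψ hu' (hint _) hint'
    have hres : ∀ ε, k ^ finrank ℂ (half n F ε) * (χ (A * B) ^ finrank ℂ (half n F ε) * d ε (A * B))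
        = χ A ^ finrank ℂ (half n F ε) * d ε A * (χ B ^ finrank ℂ (half n F ε) * d ε B) := by
      intro ε
      have e : k • χ (A * B) • (T (A * B)).restrict (mapsTo_half (hc (A * B)) ε) =
          (χ A • (T A).restrict (mapsTo_half (hc A) ε)) *
            (χ B • (T B).restrict (mapsTo_half (hc B) ε)) := by
        ext f : 1
        apply Subtype.ext
        exact (LinearMap.congr_fun hk f.1).symm
      have := congrArg LinearMap.det e
      rwa [LinearMap.det_smul, LinearMap.det_smul, map_mul, LinearMap.det_smul,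
        LinearMap.det_smul] at this
    have hp := hres 1
    have hm := hres (-1)
    rw [finrank_half_one h2] at hp
    set r := finrank ℂ (half n F (-1))
    have heq : ∀ C, χ C ^ (r + 1) * d 1 C = χ C ^ r * d (-1) C := fun C => by
      rw [pow_succ, mul_assoc, hχ]
      simp only [div_mul_cancel₀ _ (hd 1 C)]
    rw [heq, heq, heq, ← hm, pow_succ, mul_assoc] at hp
    have hk1 : k = 1 := by
      have hne : χ (A * B) ^ r * d (-1) (A * B) ≠ 0 :=
        mul_ne_zero (pow_ne_zero _ (div_ne_zero (hd _ _) (hd _ _))) (hd _ _)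
      have hk0 : k ≠ 0 := by
        intro h0
        rw [h0, zero_smul] at hk
        have hz := (hu A).mul (hu B)
        rw [smul_mul_smul_comm] at hk
        have := (smul_eq_zero.1 hk).resolve_left
          (mul_ne_zero (div_ne_zero (hd _ _) (hd _ _)) (div_ne_zero (hd _ _) (hd _ _)))
        exact hz.ne_zero this
      have hkr := mul_left_cancel₀ (pow_ne_zero r hk0) hp
      exact mul_right_cancel₀ hne (hkr.trans (one_mul _).symm)
    rw [hk, hk1, one_smul]
  have hone : χ 1 • T 1 = 1 := by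
    have h := hmul 1 1
    rw [one_mul] at h
    have hu1 : IsUnit (χ 1 • T 1) := by
      rw [show χ 1 • T 1 = algebraMap ℂ _ (χ 1) * T 1 from Algebra.smul_def _ _]
      exact ((IsUnit.mk0 _ (div_ne_zero (hd _ _) (hd _ _))).map _).mul (hu _)
    exact hu1.mul_eq_left.1 h.symm
  refine ⟨{ toFun := fun A => χ A • T A, map_one' := hone, map_mul' := hmul }, hint, fun A => ?_⟩
  exact (hc A).smul_right _

/-- The representation on the odd functions. -/
noncomputable def halfRep {G : Type*} [Group G] (W : G →* Module.End ℂ (Fn n F))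
    (hW : ∀ g, Commute (parity n F) (W g)) (ε : ℂ) : Representation ℂ G (half n F ε) where
  toFun g := (W g).restrict (mapsTo_half (hW g) ε)
  map_one' := by
    apply LinearMap.ext
    intro f
    apply Subtype.ext
    show W 1 f.1 = f.1
    rw [map_one, Module.End.one_apply]
  map_mul' g h := by
    apply LinearMap.ext
    intro f
    apply Subtype.ext
    show W (g * h) f.1 = W g (W h f.1)
    rw [map_mul, Module.End.mul_apply]

theorem halfRep_coe {G : Type*} [Group G] (W : G →* Module.End ℂ (Fn n F))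
    (hW : ∀ g, Commute (parity n F) (W g)) (ε : ℂ) (g : G) (f : half n F ε) :
    (halfRep W hW ε g f).1 = W g f.1 := rfl

/-- Multiplication by a quadratic exponential. -/
noncomputable def quadMul (ψ : AddChar F ℂ) (B : Matrix (Fin n) (Fin n) F) :
    Module.End ℂ (Fn n F) where
  toFun f x := ψ (-((2 : F)⁻¹ * (x ⬝ᵥ (B *ᵥ x)))) * f x
  map_add' f g := by ext x; simp [mul_add]
  map_smul' c f := by ext x; simp [mul_left_comm]

/-- A lower unitriangular element is intertwined by a multiplication operator. -/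
theorem isInt_quadMul [Fintype F] (ψ : AddChar F ℂ) (h2 : (2 : F) ≠ 0)
    {A : symplecticGroup (Fin n) F} {B : Matrix (Fin n) (Fin n) F} (hB : B.IsSymm)
    (hA : (A : Matrix (Fin n ⊕ Fin n) (Fin n ⊕ Fin n) F) = fromBlocks 1 0 B 1) :
    IsInt ψ A (quadMul ψ B) := by
  intro v
  ext f x
  set a := v ∘ Sum.inl with ha
  set b := v ∘ Sum.inr with hb
  have hl : ((fromBlocks 1 0 B 1 : Matrix (Fin n ⊕ Fin n) (Fin n ⊕ Fin n) F) *ᵥ v) ∘ Sum.inl = a := by
    rw [fromBlocks_mulVec, Sum.elim_comp_inl, one_mulVec, zero_mulVec, add_zero]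
  have hr : ((fromBlocks 1 0 B 1 : Matrix (Fin n ⊕ Fin n) (Fin n ⊕ Fin n) F) *ᵥ v) ∘ Sum.inr = B *ᵥ a + b := by
    rw [fromBlocks_mulVec, Sum.elim_comp_inr, one_mulVec]
  rw [hA, Module.End.mul_apply, Module.End.mul_apply, heis_apply, hl, hr]
  show _ * (ψ _ * f _) = ψ _ * heis ψ v f x
  rw [heis_apply, ← mul_assoc, ← mul_assoc, ← AddChar.map_add_eq_mul, ← AddChar.map_add_eq_mul]
  congr 2
  have hs : x ⬝ᵥ (B *ᵥ a) = (B *ᵥ a) ⬝ᵥ x := dotProduct_comm _ _
  have hs2 : a ⬝ᵥ (B *ᵥ x) = (B *ᵥ a) ⬝ᵥ x := by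
    rw [dotProduct_mulVec, ← mulVec_transpose, hB.eq]
  simp only [mulVec_add, add_dotProduct, dotProduct_add, hs, hs2, ← ha, ← hb]
  field_simp
  ring

end Cfsg.Agent.Lib.Weil
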