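import Cfsg.Agent.Lib.Symplectic.Std

/-!
The Weil representation of `Sp_{2n}(q)`, `q` odd: Heisenberg operators on functions on `F ^ n`,
intertwining operators, and their linearisation by the determinants on the two parity halves.
-/

set_option autoImplicit false

namespace Cfsg.Agent.Lib.Weil

open Matrix Module Cfsg.Agent.Lib.Symplectic

variable {n : ℕ} {F : Type*} [Field F] (ψ : AddChar F ℂ)

/-- The space of functions. -/
abbrev Fn (n : ℕ) (F : Type*) : Type _ := (Fin n → F) → ℂ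

/-- The Heisenberg operator of a vector `(a, b)`. -/
noncomputable def heis (v : Fin n ⊕ Fin n → F) : Module.End ℂ (Fn n F) where
  toFun f x := ψ ((v ∘ Sum.inr) ⬝ᵥ x + (2 : F)⁻¹ * ((v ∘ Sum.inl) ⬝ᵥ (v ∘ Sum.inr))) *
    f (x + v ∘ Sum.inl)
  map_add' f g := by ext x; simp [mul_add]
  map_smul' c f := by ext x; simp [mul_left_comm]

theorem heis_apply (v : Fin n ⊕ Fin n → F) (f : Fn n F) (x : Fin n → F) :
    heis ψ v f x = ψ ((v ∘ Sum.inr) ⬝ᵥ x + (2 : F)⁻¹ * ((v ∘ Sum.inl) ⬝ᵥ (v ∘ Sum.inr))) *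
      f (x + v ∘ Sum.inl) := rfl

theorem stdForm_dot (v w : Fin n ⊕ Fin n → F) : stdForm n F w v =
    (v ∘ Sum.inl) ⬝ᵥ (w ∘ Sum.inr) - (v ∘ Sum.inr) ⬝ᵥ (w ∘ Sum.inl) := by
  rw [stdForm_apply, dotProduct, dotProduct, ← Finset.sum_sub_distrib]
  exact Finset.sum_congr rfl fun i _ => by simp [Function.comp]; ring

theorem heis_mul (h2 : (2 : F) ≠ 0) (v w : Fin n ⊕ Fin n → F) :
    heis ψ v * heis ψ w = ψ ((2 : F)⁻¹ * stdForm n F w v) • heis ψ (v + w) := by
  ext f x
  have hl : (v + w) ∘ Sum.inl = v ∘ Sum.inl + w ∘ Sum.inl := rfl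
  have hr : (v + w) ∘ Sum.inr = v ∘ Sum.inr + w ∘ Sum.inr := rfl
  rw [Module.End.mul_apply, LinearMap.smul_apply, Pi.smul_apply, smul_eq_mul, heis_apply,
    heis_apply, heis_apply, hl, hr, ← mul_assoc, ← mul_assoc, add_assoc,
    ← AddChar.map_add_eq_mul, ← AddChar.map_add_eq_mul, stdForm_dot]
  congr 2
  simp only [add_dotProduct, dotProduct_add]
  rw [dotProduct_comm (w ∘ Sum.inr) (v ∘ Sum.inl), dotProduct_comm (v ∘ Sum.inr) (w ∘ Sum.inl)]
  field_simp
  ring

theorem heis_zero : heis ψ (0 : Fin n ⊕ Fin n → F) = 1 := by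
  ext f x
  rw [heis_apply]
  simp [Module.End.one_apply]

/-- The parity operator. -/
def parity (n : ℕ) (F : Type*) [Field F] : Module.End ℂ (Fn n F) where
  toFun f x := f (-x)
  map_add' _ _ := rfl
  map_smul' _ _ := rfl

theorem parity_apply (f : Fn n F) (x : Fin n → F) : parity n F f x = f (-x) := rfl

theorem parity_sq : parity n F * parity n F = 1 := by
  ext f x
  simp [Module.End.mul_apply, parity_apply]

theorem parity_heis (v : Fin n ⊕ Fin n → F) :
    parity n F * heis ψ v = heis ψ (-v) * parity n F := by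
  ext f x
  have hl : (-v) ∘ Sum.inl = -(v ∘ Sum.inl) := rfl
  have hr : (-v) ∘ Sum.inr = -(v ∘ Sum.inr) := rfl
  simp only [Module.End.mul_apply, parity_apply, heis_apply, hl, hr, neg_dotProduct, dotProduct_neg,
    neg_neg, neg_add_rev, add_comm (-(v ∘ Sum.inl)) x]
  rw [add_comm (-x) (v ∘ Sum.inl)]

variable [Fintype F]

theorem sum_char_dot (hψ : ψ 1 ≠ 1) (b : Fin n → F) [DecidableEq (Fin n → F)] :
    ∑ x : Fin n → F, ψ (b ⬝ᵥ x) = if b = 0 then (Fintype.card (Fin n → F) : ℂ) else 0 := by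
  classical
  split_ifs with h
  · simp [h]
  · obtain ⟨k, hk⟩ := Function.ne_iff.1 h
    let χ : AddChar (Fin n → F) ℂ := ψ.compAddMonoidHom
      { toFun := fun x => b ⬝ᵥ x
        map_zero' := dotProduct_zero b
        map_add' := dotProduct_add b }
    show ∑ x, χ x = 0
    rw [AddChar.sum_eq_zero_iff_ne_zero, AddChar.ne_zero_iff]
    refine ⟨Pi.single k (b k)⁻¹, ?_⟩
    show ψ (b ⬝ᵥ Pi.single k (b k)⁻¹) ≠ 1
    rw [dotProduct_single, mul_inv_cancel₀ hk]
    exact hψ

/-- The operators are linearly independent. -/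
theorem heis_indep (hψ : ψ 1 ≠ 1) (c : (Fin n ⊕ Fin n → F) → ℂ) (h : ∑ v, c v • heis ψ v = 0) :
    c = 0 := by
  classical
  funext v₀
  set a₀ := v₀ ∘ Sum.inl with ha₀
  set b₀ := v₀ ∘ Sum.inr with hb₀
  have key : ∀ x : Fin n → F, ∑ b : Fin n → F, c (Sum.elim a₀ b) *
      (ψ ((2 : F)⁻¹ * (a₀ ⬝ᵥ b)) * ψ (b ⬝ᵥ x)) = 0 := by
    intro x
    have h1 := congrFun (LinearMap.congr_fun h (Pi.single (x + a₀) 1)) x
    rw [← (Equiv.sumArrowEquivProdArrow (Fin n) (Fin n) F).symm.sum_comp,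
      Fintype.sum_prod_type] at h1
    simp only [LinearMap.coe_sum, LinearMap.zero_apply, Pi.zero_apply, Finset.sum_apply,
      LinearMap.smul_apply, Pi.smul_apply, smul_eq_mul, heis_apply] at h1
    rw [Finset.sum_eq_single a₀] at h1
    · rw [← h1]
      refine Finset.sum_congr rfl fun b _ => ?_
      rw [show (Equiv.sumArrowEquivProdArrow (Fin n) (Fin n) F).symm (a₀, b) = Sum.elim a₀ b from rfl,
        Sum.elim_comp_inl, Sum.elim_comp_inr, Pi.single_eq_same, mul_one, AddChar.map_add_eq_mul,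
        mul_comm (ψ (b ⬝ᵥ x))]
    · intro a _ ha
      refine Finset.sum_eq_zero fun b _ => ?_
      rw [show (Equiv.sumArrowEquivProdArrow (Fin n) (Fin n) F).symm (a, b) = Sum.elim a b from rfl,
        Sum.elim_comp_inl, Sum.elim_comp_inr, Pi.single_eq_of_ne (fun e => ha (add_left_cancel e))]
      simp
    · simp
  have h2 : ∑ x : Fin n → F, ∑ b : Fin n → F,
      c (Sum.elim a₀ b) * ψ ((2 : F)⁻¹ * (a₀ ⬝ᵥ b)) * ψ ((b - b₀) ⬝ᵥ x) = 0 := by
    refine Finset.sum_eq_zero fun x _ => ?_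
    have := congrArg (· * ψ (-(b₀ ⬝ᵥ x))) (key x)
    simp only [Finset.sum_mul, zero_mul] at this
    rw [← this]
    refine Finset.sum_congr rfl fun b _ => ?_
    rw [sub_dotProduct, sub_eq_add_neg, AddChar.map_add_eq_mul]
    ring
  rw [Finset.sum_comm] at h2
  simp only [← Finset.mul_sum, sum_char_dot ψ hψ, sub_eq_zero, mul_ite, mul_zero,
    Finset.sum_ite_eq', Finset.mem_univ, if_true] at h2
  have hv : Sum.elim a₀ b₀ = v₀ := Sum.elim_comp_inl_inr v₀
  rw [hv] at h2
  rcases mul_eq_zero.1 h2 with h3 | h3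
  · rcases mul_eq_zero.1 h3 with h4 | h4
    · exact h4
    · exact absurd h4 (AddChar.val_isUnit ψ _).ne_zero
  · exact absurd h3 (Nat.cast_ne_zero.2 Fintype.card_ne_zero)

theorem heis_single [DecidableEq (Fin n → F)] (v : Fin n ⊕ Fin n → F) (p x : Fin n → F) :
    heis ψ v (Pi.single p 1) x =
      if x + v ∘ Sum.inl = p then ψ ((v ∘ Sum.inr) ⬝ᵥ x +
        (2 : F)⁻¹ * ((v ∘ Sum.inl) ⬝ᵥ (v ∘ Sum.inr))) else 0 := by
  rw [heis_apply, Pi.single_apply]
  split_ifs <;> simp

/-- Only scalars commute with all the operators. -/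
theorem commutant (hψ : ψ 1 ≠ 1) (S : Module.End ℂ (Fn n F)) (h : ∀ v, heis ψ v * S = S * heis ψ v) :
    ∃ k : ℂ, S = k • 1 := by
  classical
  refine ⟨S (Pi.single 0 1) 0, ?_⟩
  have hmod : ∀ (b p : Fin n → F), heis ψ (Sum.elim 0 b) (Pi.single p 1) =
      ψ (b ⬝ᵥ p) • (Pi.single p 1 : Fn n F) := by
    intro b p
    funext x
    rw [heis_single, Sum.elim_comp_inl, Sum.elim_comp_inr, Pi.smul_apply, Pi.single_apply,
      add_zero, zero_dotProduct, mul_zero, add_zero]
    split_ifs with hx <;> simp [hx]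
  have hoff : ∀ p x : Fin n → F, x ≠ p → S (Pi.single p 1) x = 0 := by
    intro p x hx
    by_contra hne
    have h1 : ∀ b : Fin n → F, ψ (b ⬝ᵥ (x - p)) = 1 := by
      intro b
      have h2 := congrFun (LinearMap.congr_fun (h (Sum.elim 0 b)) (Pi.single p 1)) x
      rw [Module.End.mul_apply, Module.End.mul_apply, hmod, map_smul, heis_apply,
        Sum.elim_comp_inl, Sum.elim_comp_inr, add_zero, zero_dotProduct, mul_zero, add_zero,
        Pi.smul_apply, smul_eq_mul] at h2
      rw [dotProduct_sub, AddChar.map_sub_eq_div, mul_right_cancel₀ hne h2,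
        div_self (AddChar.val_isUnit ψ _).ne_zero]
    obtain ⟨k, hk⟩ := Function.ne_iff.1 (sub_ne_zero.2 hx)
    have := h1 (Pi.single k ((x - p) k)⁻¹)
    rw [single_dotProduct, inv_mul_cancel₀ hk] at this
    exact hψ this
  have htr : ∀ p : Fin n → F, heis ψ (Sum.elim p 0) (Pi.single p 1) = Pi.single 0 1 := by
    intro p
    funext x
    rw [heis_single, Sum.elim_comp_inl, Sum.elim_comp_inr, Pi.single_apply, dotProduct_zero,
      zero_dotProduct, mul_zero, add_zero, AddChar.map_zero_eq_one]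
    exact if_congr add_eq_right rfl rfl
  refine LinearMap.pi_ext' fun p => LinearMap.ext_ring ?_
  funext x
  simp only [LinearMap.comp_apply, LinearMap.coe_single, LinearMap.smul_apply, Module.End.one_apply,
    Pi.smul_apply, smul_eq_mul]
  rcases eq_or_ne x p with rfl | hx
  · have h2 := congrFun (LinearMap.congr_fun (h (Sum.elim x 0)) (Pi.single x 1)) 0
    rw [Module.End.mul_apply, Module.End.mul_apply, htr, heis_apply, Sum.elim_comp_inl,
      Sum.elim_comp_inr, zero_dotProduct, dotProduct_zero, mul_zero, add_zero,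
      AddChar.map_zero_eq_one, one_mul, zero_add] at h2
    rw [h2, Pi.single_eq_same, mul_one]
  · rw [hoff p x hx, Pi.single_eq_of_ne hx, mul_zero]

/-- A non-zero subspace invariant under all operators is everything. -/
theorem eq_top_of_invariant (hψ : ψ 1 ≠ 1) (K : Submodule ℂ (Fn n F))
    (hK : ∀ v, ∀ f ∈ K, heis ψ v f ∈ K) (hne : K ≠ ⊥) : K = ⊤ := by
  classical
  obtain ⟨f, hf, hf0⟩ := Submodule.exists_mem_ne_zero_of_ne_bot hne
  obtain ⟨x₀, hx₀⟩ := Function.ne_iff.1 hf0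
  have h1 : ∑ b : Fin n → F, ψ (-(b ⬝ᵥ x₀)) • heis ψ (Sum.elim 0 b) f =
      ((Fintype.card (Fin n → F) : ℂ) * f x₀) • (Pi.single x₀ 1 : Fn n F) := by
    funext x
    simp only [Finset.sum_apply, Pi.smul_apply, smul_eq_mul, heis_apply, Sum.elim_comp_inl,
      Sum.elim_comp_inr, zero_dotProduct, mul_zero, add_zero]
    simp only [← mul_assoc, ← AddChar.map_add_eq_mul, ← Finset.sum_mul]
    have : ∀ b : Fin n → F, -(b ⬝ᵥ x₀) + b ⬝ᵥ x = (x - x₀) ⬝ᵥ b := fun b => by
      rw [dotProduct_comm (x - x₀), dotProduct_sub]; ring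
    simp only [this, sum_char_dot ψ hψ, sub_eq_zero, Pi.single_apply]
    split_ifs with hx <;> simp [hx]
  have hx₀K : (Pi.single x₀ 1 : Fn n F) ∈ K := by
    have h2 : (∑ b : Fin n → F, ψ (-(b ⬝ᵥ x₀)) • heis ψ (Sum.elim 0 b) f) ∈ K :=
      K.sum_mem fun b _ => K.smul_mem _ (hK _ _ hf)
    rw [h1] at h2
    exact (K.smul_mem_iff (mul_ne_zero (Nat.cast_ne_zero.2 Fintype.card_ne_zero) hx₀)).1 h2
  have hall : ∀ y, (Pi.single y 1 : Fn n F) ∈ K := fun y => by
    have h3 := hK (Sum.elim (x₀ - y) 0) _ hx₀K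
    convert h3 using 1
    funext x
    rw [heis_single, Sum.elim_comp_inl, Sum.elim_comp_inr, Pi.single_apply, dotProduct_zero,
      zero_dotProduct, mul_zero, add_zero, AddChar.map_zero_eq_one]
    exact if_congr (by rw [← eq_sub_iff_add_eq, sub_sub_cancel]) rfl rfl
  rw [eq_top_iff]
  intro g _
  rw [← Finset.univ_sum_single g]
  refine K.sum_mem fun y _ => ?_
  have : (Pi.single y (g y) : Fn n F) = g y • Pi.single y 1 := by
    rw [← Pi.single_smul', smul_eq_mul, mul_one]
  rw [this]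
  exact K.smul_mem _ (hall y)

/-- `T` intertwines the symplectic matrix `A`. -/
def IsInt (A : symplecticGroup (Fin n) F) (T : Module.End ℂ (Fn n F)) : Prop :=
  ∀ v, heis ψ ((A : Matrix (Fin n ⊕ Fin n) (Fin n ⊕ Fin n) F) *ᵥ v) * T = T * heis ψ v

/-- Existence of an intertwining operator. -/
theorem exists_int (h2 : (2 : F) ≠ 0) (hψ : ψ 1 ≠ 1) (A : symplecticGroup (Fin n) F) :
    ∃ T : Module.End ℂ (Fn n F), IsUnit T ∧ IsInt ψ A T := by
  classical
  set M : Matrix (Fin n ⊕ Fin n) (Fin n ⊕ Fin n) F := A.1 with hM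
  have hform : ∀ v w, stdForm n F (M *ᵥ v) (M *ᵥ w) = stdForm n F v w :=
    (mem_sp_iff (A := M)).1 A.2
  have hint : ∀ X : Module.End ℂ (Fn n F),
      IsInt ψ A (∑ v, heis ψ (M *ᵥ v) * X * heis ψ (-v)) := by
    intro X u
    rw [Finset.mul_sum, Finset.sum_mul]
    refine Fintype.sum_equiv (Equiv.addRight u) _ _ fun v => ?_
    have e1 : -(v + u) + u = -v := by abel
    rw [Equiv.coe_addRight, ← mul_assoc, ← mul_assoc, heis_mul ψ h2, hform,
      mul_assoc (_ * X) _ (heis ψ u), heis_mul ψ h2, e1, ← mulVec_add, add_comm u v,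
      smul_mul_assoc, smul_mul_assoc, mul_smul_comm]
    congr 2
    rw [map_neg, map_add, (isSympForm_stdForm n F).self u, (isSympForm_stdForm n F).swap u v]
    ring
  obtain ⟨X, hX⟩ : ∃ X : Module.End ℂ (Fn n F), ∑ v, heis ψ (M *ᵥ v) * X * heis ψ (-v) ≠ 0 := by
    by_contra hcon
    push Not at hcon
    have hc : ∑ v, (heis ψ (M *ᵥ v) (Pi.single 0 1) 0) • heis ψ (-v) = 0 := by
      refine LinearMap.pi_ext' fun s => LinearMap.ext_ring (funext fun p => ?_)
      have := congrFun (LinearMap.congr_fun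
        (hcon ((LinearMap.proj p : Fn n F →ₗ[ℂ] ℂ).smulRight (Pi.single 0 1))) (Pi.single s 1)) 0
      simp only [LinearMap.coe_sum, Finset.sum_apply, Module.End.mul_apply, LinearMap.smulRight_apply,
        LinearMap.proj_apply, map_smul, Pi.smul_apply, smul_eq_mul, LinearMap.zero_apply,
        Pi.zero_apply] at this
      simp only [LinearMap.comp_apply, LinearMap.coe_single, LinearMap.coe_sum, Finset.sum_apply,
        LinearMap.smul_apply, Pi.smul_apply, smul_eq_mul, LinearMap.zero_apply, Pi.zero_apply]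
      rw [← this]
      exact Finset.sum_congr rfl fun v _ => mul_comm _ _
    rw [← Equiv.sum_comp (Equiv.neg _)] at hc
    simp only [Equiv.neg_apply, neg_neg] at hc
    have h0 := congrFun (heis_indep ψ hψ _ hc) 0
    simp [heis_zero] at h0
  set T := ∑ v, heis ψ (M *ᵥ v) * X * heis ψ (-v)
  refine ⟨T, ?_, hint X⟩
  have hinj : Function.Injective T := by
    rw [← LinearMap.ker_eq_bot]
    by_contra hne
    refine hX (LinearMap.ext fun f => ?_)
    have htop := eq_top_of_invariant ψ hψ (LinearMap.ker T) (fun v f hf => by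
      rw [LinearMap.mem_ker] at hf ⊢
      rw [← Module.End.mul_apply, ← hint X v, Module.End.mul_apply, hf, map_zero]) hne
    have : f ∈ LinearMap.ker T := by rw [htop]; trivial
    simpa using this
  rw [Module.End.isUnit_iff]
  exact ⟨hinj, LinearMap.injective_iff_surjective.1 hinj⟩

/-- Uniqueness up to scalars. -/
theorem int_unique (hψ : ψ 1 ≠ 1) {A : symplecticGroup (Fin n) F} {T T' : Module.End ℂ (Fn n F)}
    (hu : IsUnit T) (hT : IsInt ψ A T) (hT' : IsInt ψ A T') : ∃ k : ℂ, T' = k • T := by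
  obtain ⟨u, rfl⟩ := hu
  set ui : Module.End ℂ (Fn n F) := ((u⁻¹ : (Module.End ℂ (Fn n F))ˣ) : Module.End ℂ (Fn n F))
  have hui : ui * (u : Module.End ℂ (Fn n F)) = 1 := u.inv_mul
  have hiu : (u : Module.End ℂ (Fn n F)) * ui = 1 := u.mul_inv
  obtain ⟨k, hk⟩ := commutant ψ hψ (ui * T') fun v => by
    have h1 : heis ψ v * ui = ui * heis ψ ((A : Matrix (Fin n ⊕ Fin n) (Fin n ⊕ Fin n) F) *ᵥ v) := by
      calc heis ψ v * ui = ui * ((u : Module.End ℂ (Fn n F)) * heis ψ v) * ui := by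
            rw [← mul_assoc, hui, one_mul]
        _ = ui * heis ψ ((A : Matrix (Fin n ⊕ Fin n) (Fin n ⊕ Fin n) F) *ᵥ v) *
            ((u : Module.End ℂ (Fn n F)) * ui) := by rw [← hT v]; simp only [mul_assoc]
        _ = _ := by rw [hiu, mul_one]
    rw [← mul_assoc, h1, mul_assoc, hT' v, ← mul_assoc]
  refine ⟨k, ?_⟩
  calc T' = (u : Module.End ℂ (Fn n F)) * (ui * T') := by rw [← mul_assoc, hiu, one_mul]
    _ = _ := by rw [hk, mul_smul_comm, mul_one]

theorem two_ne_zero_neg (h2 : (2 : F) ≠ 0) {x : Fin n → F} (h : -x = x) : x = 0 := by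
  funext i
  have := congrFun h i
  rw [Pi.neg_apply] at this
  have h' : (2 : F) * x i = 0 := by linear_combination -this
  exact (mul_eq_zero.1 h').resolve_left h2

theorem trace_parity (h2 : (2 : F) ≠ 0) : LinearMap.trace ℂ (Fn n F) (parity n F) = 1 := by
  classical
  rw [LinearMap.trace_eq_matrix_trace ℂ (Pi.basisFun ℂ (Fin n → F)), Matrix.trace,
    Finset.sum_eq_single 0]
  · simp [LinearMap.toMatrix_apply, parity_apply]
  · intro x _ hx
    simp only [Matrix.diag, LinearMap.toMatrix_apply, Pi.basisFun_repr, Pi.basisFun_apply,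
      parity_apply]
    exact Pi.single_eq_of_ne (fun h => hx (two_ne_zero_neg h2 h)) _
  · simp

/-- An invertible intertwiner commutes with parity. -/
theorem int_comm_parity (h2 : (2 : F) ≠ 0) (hψ : ψ 1 ≠ 1) {A : symplecticGroup (Fin n) F}
    {T : Module.End ℂ (Fn n F)} (hu : IsUnit T) (hT : IsInt ψ A T) :
    Commute (parity n F) T := by
  set P := parity n F
  have hPh : ∀ v, heis ψ v * P = P * heis ψ (-v) := fun v => by
    rw [parity_heis, neg_neg]
  have hint : IsInt ψ A (P * T * P) := fun v => by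
    calc heis ψ ((A : Matrix (Fin n ⊕ Fin n) (Fin n ⊕ Fin n) F) *ᵥ v) * (P * T * P)
        = P * (heis ψ ((A : Matrix (Fin n ⊕ Fin n) (Fin n ⊕ Fin n) F) *ᵥ (-v)) * T) * P := by
          rw [← mul_assoc, ← mul_assoc, hPh, mulVec_neg]; simp only [mul_assoc]
      _ = P * T * (heis ψ (-v) * P) := by rw [hT]; simp only [mul_assoc]
      _ = P * T * P * heis ψ v := by rw [hPh, neg_neg]; simp only [mul_assoc]
  obtain ⟨k, hk⟩ := int_unique ψ hψ hu hT hint
  have hT2 : T = (k * k) • T := by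
    calc T = P * (P * T * P) * P := by
          simp only [← mul_assoc]; rw [parity_sq, one_mul, mul_assoc, parity_sq, mul_one]
      _ = (k * k) • T := by
          rw [hk, mul_smul_comm, smul_mul_assoc, hk, smul_smul]
  have hT0 : T ≠ 0 := hu.ne_zero
  have hk2 : k * k = 1 := by
    have : (1 - k * k) • T = 0 := (sub_smul (1 : ℂ) (k * k) T).trans (by rw [one_smul, ← hT2, sub_self])
    exact (sub_eq_zero.1 ((smul_eq_zero.1 this).resolve_right hT0)).symm
  have hPT : P * T = k • (T * P) := by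
    rw [← smul_mul_assoc, ← hk, mul_assoc _ P P, parity_sq, mul_one]
  rcases mul_self_eq_one_iff.1 hk2 with rfl | rfl
  · rw [Commute, SemiconjBy, hPT, one_smul]
  · exfalso
    obtain ⟨u, rfl⟩ := hu
    have h3 : (↑u⁻¹ : Module.End ℂ (Fn n F)) * (P * ↑u) = -P := by
      rw [hPT, mul_smul_comm, Units.inv_mul_cancel_left]
      exact neg_one_smul ℂ P
    have h4 := congrArg (LinearMap.trace ℂ (Fn n F)) h3
    rw [LinearMap.trace_mul_comm, mul_assoc, Units.mul_inv, mul_one, map_neg, trace_parity h2] at h4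
    norm_num at h4

end Cfsg.Agent.Lib.Weil
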